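import Groth.Agent.Norm57.GenPoints
import Mathlib.AlgebraicGeometry.Morphisms.Finite
import Mathlib.AlgebraicGeometry.Morphisms.QuasiFinite
import Mathlib.AlgebraicGeometry.Morphisms.FiniteType
import Mathlib.AlgebraicGeometry.IdealSheaf.Subscheme
import Mathlib.RingTheory.Jacobson.Artinian
import Mathlib.RingTheory.Spectrum.Prime.Jacobson
import Mathlib.RingTheory.Localization.Integral

/-!
A morphism of finite type with finite fibre over a maximal point is finite over an affine
neighbourhood of that point, as soon as the fibre is contained in one affine open.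
-/

set_option autoImplicit false
set_option backward.isDefEq.respectTransparency.types false
set_option linter.style.haveILetI false
universe u

open CategoryTheory AlgebraicGeometry Polynomial

namespace Groth.Agent.Fin57

section Algebra

variable {R S : Type u} [CommRing R] [CommRing S] [Algebra R S]

/-- A finite type algebra with finitely many primes over a local ring with only one prime is
integral. -/
theorem isIntegral_of_finite_primeSpectrum [IsLocalRing R] [Ring.KrullDimLE 0 R]
    [Algebra.FiniteType R S] [Finite (PrimeSpectrum S)] : Algebra.IsIntegral R S := by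
  refine ⟨fun x => ?_⟩
  let m := IsLocalRing.maximalIdeal R
  let C := S ⧸ m.map (algebraMap R S)
  let k := R ⧸ m
  letI : Field k := Ideal.Quotient.field m
  letI : Algebra k C := Ideal.Quotient.algebraQuotientOfLEComap Ideal.le_comap_map
  haveI : IsScalarTower R k C := IsScalarTower.of_algebraMap_eq fun r => rfl
  haveI : Algebra.FiniteType R C :=
    Algebra.FiniteType.of_surjective (Ideal.Quotient.mkₐ R (m.map (algebraMap R S)))
      Ideal.Quotient.mk_surjective
  haveI : Algebra.FiniteType k C := Algebra.FiniteType.of_restrictScalars_finiteType R k C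
  haveI : Finite (PrimeSpectrum C) :=
    Finite.of_injective (PrimeSpectrum.comap (Ideal.Quotient.mk (m.map (algebraMap R S))))
      (PrimeSpectrum.comap_injective_of_surjective _ Ideal.Quotient.mk_surjective)
  haveI : IsJacobsonRing C := isJacobsonRing_of_finiteType (A := k)
  haveI : Module.Finite k C := (Module.finite_iff_krullDimLE_zero k C).mpr
    (PrimeSpectrum.discreteTopology_iff_finite_and_krullDimLE_zero.mp inferInstance).right
  obtain ⟨q, hq, hqx⟩ := Algebra.IsIntegral.isIntegral (R := k) (Ideal.Quotient.mk _ x : C)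
  obtain ⟨Q, hQ, -, hQm⟩ := lifts_and_degree_eq_and_monic
    (show q ∈ lifts (Ideal.Quotient.mk m) from
      (lifts_iff_coeff_lifts q).mpr fun n => Ideal.Quotient.mk_surjective _) hq
  have h0 : (Ideal.Quotient.mk (m.map (algebraMap R S))) (Q.eval₂ (algebraMap R S) x) = 0 := by
    rw [hom_eval₂]
    rw [← hQ, eval₂_map] at hqx
    exact hqx
  have hnil : IsNilpotent (Q.eval₂ (algebraMap R S) x) := by
    rw [← mem_nilradical]
    refine Ideal.map_le_iff_le_comap.mpr ?_ (Ideal.Quotient.eq_zero_iff_mem.mp h0)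
    intro a ha
    change a ∈ IsLocalRing.maximalIdeal R at ha
    rw [← Ring.KrullDimLE.nilradical_eq_maximalIdeal] at ha
    exact (mem_nilradical.mp ha).map _
  obtain ⟨N, hN⟩ := hnil
  exact ⟨Q ^ N, hQm.pow N, by rw [eval₂_pow, hN]⟩

/-- Over a minimal prime with finitely many primes above it, a finite type algebra is integral
after inverting one element. -/
theorem exists_notMem_forall_isIntegral_pow_mul {A B : Type u} [CommRing A] [CommRing B]
    [Algebra A B] [Algebra.FiniteType A B] (p : Ideal A) [p.IsPrime]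
    (hp : p ∈ minimalPrimes A)
    (hfin : {q : PrimeSpectrum B | q.asIdeal.comap (algebraMap A B) = p}.Finite) :
    ∃ g ∉ p, ∀ b : B, ∃ n : ℕ, IsIntegral A (algebraMap A B g ^ n * b) := by
  classical
  let R := Localization.AtPrime p
  let M := Algebra.algebraMapSubmonoid B p.primeCompl
  let S := Localization M
  haveI : Ring.KrullDimLE 0 R := by
    refine Ring.krullDimLE_zero_iff.mpr fun I hI => ?_
    have h1 : I.comap (algebraMap A R) ≤ p := fun a ha => by
      by_contra hap
      exact hI.ne_top (Ideal.eq_top_of_isUnit_mem _ ha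
        (IsLocalization.map_units R (⟨a, hap⟩ : p.primeCompl)))
    have h2 : I.comap (algebraMap A R) = p :=
      le_antisymm h1 (hp.2 ⟨hI.comap _, bot_le⟩ h1)
    have h3 : I = IsLocalRing.maximalIdeal R := by
      rw [← IsLocalization.map_under p.primeCompl R I, Ideal.under, h2]
      exact IsLocalization.AtPrime.map_eq_maximalIdeal p R
    exact h3 ▸ IsLocalRing.maximalIdeal.isMaximal R
  haveI : Finite (PrimeSpectrum S) := by
    haveI : Finite {q : PrimeSpectrum B // q.asIdeal.comap (algebraMap A B) = p} := hfin.to_subtype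
    refine Finite.of_injective (β := {q : PrimeSpectrum B // q.asIdeal.comap (algebraMap A B) = p})
      (fun q => ⟨PrimeSpectrum.comap (algebraMap B S) q, ?_⟩) fun a b h =>
        PrimeSpectrum.localization_comap_injective S M (Subtype.ext_iff.mp h)
    have h1 : (q.asIdeal.comap (algebraMap B S)).comap (algebraMap A B) ≤ p := fun a ha => by
      by_contra hap
      exact q.isPrime.ne_top (Ideal.eq_top_of_isUnit_mem _ ha
        (IsLocalization.map_units S (⟨algebraMap A B a, a, hap, rfl⟩ : M)))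
    exact le_antisymm h1 (hp.2 ⟨(q.isPrime.comap _).comap _, bot_le⟩ h1)
  haveI : Algebra.FiniteType R S := by
    obtain ⟨G, hG⟩ := (‹Algebra.FiniteType A B› : Algebra.FiniteType A B).out
    refine ⟨⟨G.image (algebraMap B S), eq_top_iff.mpr fun z _ => ?_⟩⟩
    rw [Finset.coe_image]
    set T := Algebra.adjoin R (algebraMap B S '' (G : Set B)) with hT
    have hB : ∀ b : B, algebraMap B S b ∈ T := fun b => by
      have h1 : b ∈ (T.restrictScalars A).comap (IsScalarTower.toAlgHom A B S) :=
        (hG ▸ Algebra.adjoin_le fun x hx => Algebra.subset_adjoin (Set.mem_image_of_mem _ hx) :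
          (⊤ : Subalgebra A B) ≤ _) (Algebra.mem_top (x := b))
      exact h1
    obtain ⟨b, ⟨_, a, ha, rfl⟩, rfl⟩ := IsLocalization.exists_mk'_eq M z
    obtain ⟨v, hv⟩ := IsLocalization.map_units R (⟨a, ha⟩ : p.primeCompl)
    have : IsLocalization.mk' S b (⟨algebraMap A B a, a, ha, rfl⟩ : M) =
        algebraMap R S ((↑v⁻¹ : R)) * algebraMap B S b := by
      rw [IsLocalization.mk'_eq_iff_eq_mul]
      dsimp only
      rw [← IsScalarTower.algebraMap_apply A B S, IsScalarTower.algebraMap_apply A R S,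
        mul_right_comm, ← map_mul, ← hv, Units.inv_mul, map_one, one_mul]
    rw [this]
    exact T.mul_mem (T.algebraMap_mem _) (hB b)
  haveI : Algebra.IsIntegral R S := isIntegral_of_finite_primeSpectrum
  have key : ∀ b : B, ∃ s ∈ p.primeCompl, IsIntegral A (algebraMap A B s * b) := fun b => by
    obtain ⟨⟨m, hm⟩, hmb⟩ := IsIntegral.exists_multiple_integral_of_isLocalization p.primeCompl
      (algebraMap B S b) (Algebra.IsIntegral.isIntegral (R := R) _)
    obtain ⟨Q, hQ, hQ0⟩ := hmb
    have e : (⟨m, hm⟩ : p.primeCompl) • algebraMap B S b =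
        algebraMap B S (algebraMap A B m * b) := by
      rw [Submonoid.smul_def, Algebra.smul_def, map_mul, ← IsScalarTower.algebraMap_apply]
    rw [e, IsScalarTower.algebraMap_eq A B S, ← hom_eval₂] at hQ0
    obtain ⟨⟨_, t, ht, rfl⟩, htQ⟩ := (IsLocalization.map_eq_zero_iff M S _).mp hQ0
    refine ⟨t * m, p.primeCompl.mul_mem ht hm, ?_⟩
    rw [map_mul, mul_assoc]
    dsimp only at htQ
    rcases Nat.eq_zero_or_pos Q.natDegree with h | h
    · rw [hQ.natDegree_eq_zero.mp h, eval₂_one, mul_one] at htQ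
      rw [htQ, zero_mul]
      exact isIntegral_zero
    · refine ⟨Q.scaleRoots t, (monic_scaleRoots_iff t).mpr hQ, ?_⟩
      rw [scaleRoots_eval₂_mul]
      obtain ⟨d, hd⟩ : ∃ d, Q.natDegree = d + 1 := ⟨_, (Nat.succ_pred_eq_of_pos h).symm⟩
      rw [hd, pow_succ, mul_assoc, htQ, mul_zero]
  choose s hs hsb using key
  obtain ⟨G, hG⟩ := (‹Algebra.FiniteType A B› : Algebra.FiniteType A B).out
  let g := ∏ b ∈ G, s b
  refine ⟨g, fun h => Submonoid.prod_mem p.primeCompl (fun b _ => hs b) h, fun b => ?_⟩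
  let T : Subalgebra A B :=
    { carrier := {b | ∃ n : ℕ, IsIntegral A (algebraMap A B g ^ n * b)}
      mul_mem' := by
        rintro x y ⟨n, hn⟩ ⟨k, hk⟩
        exact ⟨n + k, by simpa [pow_add, mul_mul_mul_comm] using hn.mul hk⟩
      add_mem' := by
        rintro x y ⟨n, hn⟩ ⟨k, hk⟩
        refine ⟨n + k, ?_⟩
        rw [mul_add]
        refine IsIntegral.add ?_ ?_
        · rw [pow_add, mul_comm (_ ^ n), mul_assoc]
          exact (isIntegral_algebraMap.pow k).mul hn
        · rw [pow_add, mul_assoc]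
          exact (isIntegral_algebraMap.pow n).mul hk
      algebraMap_mem' := fun a => ⟨0, by simpa using isIntegral_algebraMap (x := a)⟩ }
  have hT : (G : Set B) ⊆ T := fun x hx => by
    refine ⟨1, ?_⟩
    obtain ⟨w, hw⟩ : s x ∣ g := Finset.dvd_prod_of_mem s hx
    rw [pow_one, hw, map_mul, mul_comm (algebraMap A B (s x)), mul_assoc]
    exact isIntegral_algebraMap.mul (hsb x)
  exact (hG ▸ Algebra.adjoin_le hT : (⊤ : Subalgebra A B) ≤ T) (Algebra.mem_top (x := b))

/-- Finiteness of the localization at `g`. -/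
theorem finite_away {A B A' B' : Type u} [CommRing A] [CommRing B] [CommRing A'] [CommRing B']
    [Algebra A B] [Algebra A A'] [Algebra B B'] [Algebra A' B'] [Algebra A B']
    [IsScalarTower A A' B'] [IsScalarTower A B B'] [Algebra.FiniteType A' B'] (g : A)
    [IsLocalization.Away g A'] [IsLocalization.Away (algebraMap A B g) B']
    (h : ∀ b : B, ∃ n : ℕ, IsIntegral A (algebraMap A B g ^ n * b)) : Module.Finite A' B' := by
  have hu : IsUnit (algebraMap A A' g) := IsLocalization.Away.algebraMap_isUnit g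
  obtain ⟨v, hv⟩ := hu
  have hb : ∀ b : B, IsIntegral A' (algebraMap B B' b) := fun b => by
    obtain ⟨n, hn⟩ := h b
    have h1 : IsIntegral A' (algebraMap B B' (algebraMap A B g ^ n * b)) :=
      (hn.map (IsScalarTower.toAlgHom A B B')).tower_top
    have h2 := h1.smul ((↑v⁻¹ : A') ^ n)
    rw [map_mul, map_pow, ← IsScalarTower.algebraMap_apply,
      IsScalarTower.algebraMap_apply A A' B', Algebra.smul_def, map_pow, ← mul_assoc, ← mul_pow,
      ← map_mul, ← hv, Units.inv_mul, map_one, one_pow, one_mul] at h2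
    exact h2
  haveI : Algebra.IsIntegral A' B' := ⟨fun y => by
    obtain ⟨n, a, ha⟩ := IsLocalization.Away.surj (algebraMap A B g) y
    have e : y = algebraMap A' B' ((↑v⁻¹ : A') ^ n) * algebraMap B B' a := by
      rw [← ha, mul_comm y, ← mul_assoc, ← map_pow, ← map_pow, ← IsScalarTower.algebraMap_apply,
        IsScalarTower.algebraMap_apply A A' B', ← map_mul, map_pow (algebraMap A A'), ← mul_pow,
        ← hv, Units.inv_mul, one_pow, map_one, one_mul]
    rw [e]
    exact isIntegral_algebraMap.mul (hb a)⟩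
  exact Algebra.IsIntegral.finite

end Algebra

variable {X Y : Scheme.{u}} (f : X ⟶ Y)

/-- If the fibre over a maximal point `η` lies in an open `W` of `f ⁻¹ V`, so do nearby fibres. -/
theorem exists_basicOpen_preimage_le [QuasiCompact f] {η : Y} (hη : Norm57.IsMax' η)
    {V : Y.Opens} (hV : IsAffineOpen V) (hηV : η ∈ V) {W : X.Opens}
    (hW : f ⁻¹' {η} ⊆ W) : ∃ g : Γ(Y, V), η ∈ Y.basicOpen g ∧ f ⁻¹ᵁ Y.basicOpen g ≤ W := by
  let U := f ⁻¹ᵁ V
  let W' : U.toScheme.Opens := U.ι ⁻¹ᵁ W
  let Z : TopologicalSpace.Closeds U.toScheme := ⟨(W' : Set U.toScheme)ᶜ, W'.2.isClosed_compl⟩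
  let I := Scheme.IdealSheafData.vanishingIdeal Z
  have hI : Set.range I.subschemeι = (W' : Set U.toScheme)ᶜ := by
    rw [I.range_subschemeι]
    rfl
  let φ' : I.subscheme ⟶ V := I.subschemeι ≫ (f ∣_ V)
  have hη' : (⟨η, hηV⟩ : V) ∉ closure (Set.range φ') := fun h => by
    obtain ⟨z, hz⟩ := SchBasics.exists_specializes_of_mem_closure_range φ' h
    have hz' : V.ι (φ' z) = η := hη _ (hz.map V.ι.continuous)
    have h1 : I.subschemeι z ∉ W' := hI.le ⟨z, rfl⟩
    refine h1 (hW ?_)
    change f (U.ι (I.subschemeι z)) = η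
    rw [← hz', ← Scheme.Hom.comp_apply, ← morphismRestrict_ι]
    rfl
  let N : V.toScheme.Opens := ⟨(closure (Set.range φ'))ᶜ, isClosed_closure.isOpen_compl⟩
  obtain ⟨g, hg, hηg⟩ := hV.exists_basicOpen_le (V := V.ι ''ᵁ N) ⟨η, ⟨η, hηV⟩, hη', rfl⟩ hηV
  refine ⟨g, hηg, fun x hx => ?_⟩
  obtain ⟨v, hvN, hv⟩ := hg hx
  by_contra hxW
  have hxU : x ∈ U := show f x ∈ V from hv ▸ v.2
  obtain ⟨z, hz⟩ : (⟨x, hxU⟩ : U.toScheme) ∈ Set.range I.subschemeι := hI.ge hxW
  refine hvN (subset_closure ⟨z, ?_⟩)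
  refine V.ι.isOpenEmbedding.injective (Eq.trans ?_ hv.symm)
  change ((f ∣_ V) ≫ V.ι) (I.subschemeι z) = f x
  rw [hz, morphismRestrict_ι]
  rfl

/-- If the finite fibre over a maximal point `η` lies in an affine open `W` of `f ⁻¹ V`, then `f`
is finite over a basic open neighbourhood of `η` in `V`. -/
theorem exists_isFinite_restrict [LocallyOfFiniteType f] [QuasiCompact f] {η : Y}
    (hη : Norm57.IsMax' η) (hfin : (f ⁻¹' {η}).Finite)
    {V : Y.Opens} (hV : IsAffineOpen V) (hηV : η ∈ V)
    {W : X.Opens} (hW : IsAffineOpen W) (hWV : W ≤ f ⁻¹ᵁ V) (hWη : f ⁻¹' {η} ⊆ W) :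
    ∃ D : Y.Opens, IsAffineOpen D ∧ η ∈ D ∧ D ≤ V ∧ f ⁻¹ᵁ D ≤ W ∧ IsFinite (f ∣_ D) := by
  letI := (f.appLE V W hWV).hom.toAlgebra
  haveI : Algebra.FiniteType Γ(Y, V) Γ(X, W) :=
    RingHom.finiteType_algebraMap.1 (f.finiteType_appLE hV hW hWV)
  let P := hV.primeIdealOf ⟨η, hηV⟩
  have hP : hV.fromSpec P = η := hV.fromSpec_primeIdealOf _
  have hmin : P.asIdeal ∈ minimalPrimes Γ(Y, V) := by
    refine ⟨⟨P.isPrime, bot_le⟩, fun q hq hqP => ?_⟩
    have hsp : hV.fromSpec ⟨q, hq.1⟩ ⤳ η :=
      hP ▸ ((PrimeSpectrum.le_iff_specializes ⟨q, hq.1⟩ P).mp hqP).map hV.fromSpec.continuous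
    have := hV.fromSpec.isOpenEmbedding.injective ((hη _ hsp).trans hP.symm)
    exact (congrArg PrimeSpectrum.asIdeal this).ge
  have hcomm := IsAffineOpen.SpecMap_appLE_fromSpec f hV hW hWV
  have hfin' : {q : PrimeSpectrum Γ(X, W) |
      q.asIdeal.comap (algebraMap Γ(Y, V) Γ(X, W)) = P.asIdeal}.Finite := by
    refine (hfin.preimage hW.fromSpec.isOpenEmbedding.injective.injOn).subset fun q hq => ?_
    change f (hW.fromSpec q) = η
    rw [← Scheme.Hom.comp_apply, ← hcomm, Scheme.Hom.comp_apply, ← hP]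
    exact congrArg hV.fromSpec (PrimeSpectrum.ext hq)
  obtain ⟨g₀, hg₀, hint⟩ := exists_notMem_forall_isIntegral_pow_mul P.asIdeal hmin hfin'
  obtain ⟨g₁, hg₁η, hg₁⟩ := exists_basicOpen_preimage_le f hη hV hηV hWη
  have hg₀η : η ∈ Y.basicOpen g₀ := by
    rw [← hP]
    change P ∈ hV.fromSpec ⁻¹ᵁ Y.basicOpen g₀
    rw [hV.fromSpec_preimage_basicOpen]
    exact hg₀
  let g := g₀ * g₁
  let D := Y.basicOpen g
  have hD : D = Y.basicOpen g₀ ⊓ Y.basicOpen g₁ := Y.basicOpen_mul g₀ g₁
  have hDV : D ≤ V := Y.basicOpen_le g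
  have hDW : f ⁻¹ᵁ D ≤ W := le_trans (f.preimage_mono (hD ▸ inf_le_right)) hg₁
  have hE : f ⁻¹ᵁ D = X.basicOpen (algebraMap Γ(Y, V) Γ(X, W) g) := by
    rw [RingHom.algebraMap_toAlgebra, Scheme.basicOpen_appLE]
    exact (inf_eq_right.mpr hDW).symm
  have hint' : ∀ b : Γ(X, W), ∃ n : ℕ, IsIntegral Γ(Y, V)
      (algebraMap Γ(Y, V) Γ(X, W) g ^ n * b) := fun b => by
    obtain ⟨n, hn⟩ := hint b
    refine ⟨n, ?_⟩
    rw [map_mul, mul_pow, mul_comm (_ ^ n), mul_assoc]
    exact (isIntegral_algebraMap.pow n).mul hn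
  have hDa : IsAffineOpen D := hV.basicOpen g
  have hEa : IsAffineOpen (f ⁻¹ᵁ D) := hE ▸ hW.basicOpen _
  refine ⟨D, hDa, hD ▸ ⟨hg₀η, hg₁η⟩, hDV, hDW, ?_⟩
  letI := (Y.presheaf.map (homOfLE hDV).op).hom.toAlgebra
  letI := (X.presheaf.map (homOfLE hDW).op).hom.toAlgebra
  letI := (f.app D).hom.toAlgebra
  letI := (f.appLE V (f ⁻¹ᵁ D) (hDW.trans hWV)).hom.toAlgebra
  haveI : IsScalarTower Γ(Y, V) Γ(Y, D) Γ(X, f ⁻¹ᵁ D) :=
    IsScalarTower.of_algebraMap_eq' (by
      simp only [RingHom.algebraMap_toAlgebra, ← CommRingCat.hom_comp,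
        Scheme.Hom.app_eq_appLE, Scheme.Hom.map_appLE])
  haveI : IsScalarTower Γ(Y, V) Γ(X, W) Γ(X, f ⁻¹ᵁ D) :=
    IsScalarTower.of_algebraMap_eq' (by
      simp only [RingHom.algebraMap_toAlgebra, ← CommRingCat.hom_comp, Scheme.Hom.appLE_map])
  haveI : IsLocalization.Away g Γ(Y, D) := hV.isLocalization_basicOpen g
  haveI : IsLocalization.Away (algebraMap Γ(Y, V) Γ(X, W) g) Γ(X, f ⁻¹ᵁ D) :=
    hW.isLocalization_of_eq_basicOpen _ (homOfLE hDW) hE
  haveI : Algebra.FiniteType Γ(Y, D) Γ(X, f ⁻¹ᵁ D) := by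
    refine RingHom.finiteType_algebraMap.1 ?_
    rw [RingHom.algebraMap_toAlgebra, Scheme.Hom.app_eq_appLE]
    exact f.finiteType_appLE hDa hEa le_rfl
  have hmf := finite_away (A' := Γ(Y, D)) (B' := Γ(X, f ⁻¹ᵁ D)) g hint'
  haveI : IsAffine D.toScheme := hDa
  rw [HasAffineProperty.iff_of_isAffine (P := @IsFinite)]
  refine ⟨hEa, ?_⟩
  have : (f.app D).hom.Finite := hmf
  rw [Scheme.Hom.appTop, morphismRestrict_app]
  refine RingHom.Finite.comp (g := (X.presheaf.map (eqToHom _).op).hom)
    (RingHom.Finite.of_surjective _ (ConcreteCategory.bijective_of_isIso _).2) ?_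
  exact (fun D' (h : D' = D) => (h ▸ this : (f.app D').hom.Finite)) _ D.ι_image_top

/-- A finite fibre of a quasi-compact morphism locally of finite type carries no nontrivial
specializations. -/
theorem eq_of_specializes_of_finite [LocallyOfFiniteType f] [QuasiCompact f] {η : Y}
    (hfin : (f ⁻¹' {η}).Finite) {z w : X} (hz : f z = η) (hw : f w = η) (h : z ⤳ w) : z = w := by
  haveI : Finite (f.fiber η) := by
    haveI : Finite (f ⁻¹' {η} : Set X) := hfin.to_subtype
    exact Finite.of_equiv _ (f.fiberHomeo η).toEquiv.symm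
  haveI : LocallyOfFiniteType (f.fiberToSpecResidueField η) :=
    MorphismProperty.pullback_snd _ _ inferInstance
  haveI : LocallyQuasiFinite (f.fiberToSpecResidueField η) :=
    .of_finite_preimage_singleton _ fun _ => Set.toFinite _
  let z' := (f.fiberHomeo η).symm ⟨z, hz⟩
  let w' := (f.fiberHomeo η).symm ⟨w, hw⟩
  have hs : z' ⤳ w' := by
    rw [← (f.fiberι η).isEmbedding.isInducing.specializes_iff, f.fiberι_fiberHomeo_symm,
      f.fiberι_fiberHomeo_symm]
    exact h
  have := ((f.fiberToSpecResidueField η).isDiscrete_preimage_singleton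
    ((f.fiberToSpecResidueField η) z')).eq_of_specializes hs rfl (Subsingleton.elim _ _)
  have e := congrArg (f.fiberι η) this
  rwa [f.fiberι_fiberHomeo_symm, f.fiberι_fiberHomeo_symm] at e

/-- All points of a finite fibre over a maximal point are maximal. -/
theorem isMax'_of_finite [LocallyOfFiniteType f] [QuasiCompact f] {η : Y} (hη : Norm57.IsMax' η)
    (hfin : (f ⁻¹' {η}).Finite) {x : X} (hx : f x = η) : Norm57.IsMax' x := fun _ hw =>
  eq_of_specializes_of_finite f hfin (hη _ (hx ▸ hw.map f.continuous)) hx hw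

/-- The open complement of all components not having `x` as generic point, for finitely many
components: these opens are pairwise disjoint. -/
theorem exists_disjoint_opens (h : (irreducibleComponents X).Finite) :
    ∃ O : {x : X // Norm57.IsMax' x} → X.Opens, (∀ x, x.1 ∈ O x) ∧
      Pairwise fun a b => Disjoint (O a) (O b) := by
  refine ⟨fun x => ⟨(⋃₀ {t ∈ irreducibleComponents X | t ≠ closure {x.1}})ᶜ,
    ((Set.sUnion_eq_biUnion ▸ (h.subset (Set.sep_subset _ _)).isClosed_biUnion
      fun t ht => isClosed_of_mem_irreducibleComponents t ht.1 :)).isOpen_compl⟩, fun x => ?_, ?_⟩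
  · rintro ⟨t, ⟨ht, htx⟩, hxt⟩
    have hle : closure {x.1} ⊆ t := closure_minimal (Set.singleton_subset_iff.mpr hxt)
      (isClosed_of_mem_irreducibleComponents t ht)
    exact htx (((Norm57.isMax'_iff.mp x.2).2 ht.1 hle).antisymm hle)
  · intro a b hab
    rw [← TopologicalSpace.Opens.coe_disjoint, Set.disjoint_left]
    intro y ha hb
    obtain ⟨w, hw, hwy⟩ := Norm57.exists_isMax'_specializes y
    have hmem : ∀ c : {x : X // Norm57.IsMax' x}, w ≠ c.1 →
        y ∈ ⋃₀ {t ∈ irreducibleComponents X | t ≠ closure {c.1}} := fun c hc =>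
      ⟨closure {w}, ⟨Norm57.isMax'_iff.mp hw, fun e => hc (c.2 w
        (specializes_iff_closure_subset.mpr e.ge))⟩, specializes_iff_mem_closure.mp hwy⟩
    by_cases hwa : w = a.1
    · exact hb (hmem b (hwa ▸ fun e => hab (Subtype.ext e)))
    · exact ha (hmem a hwa)

theorem finite_setOf_isMax' (h : (irreducibleComponents X).Finite) :
    {x : X | Norm57.IsMax' x}.Finite :=
  Set.Finite.of_finite_image (f := fun x => closure ({x} : Set X))
    (h.subset fun _ ⟨_, hx, e⟩ => e ▸ Norm57.isMax'_iff.mp hx)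
    fun a ha b _ e => (ha b (specializes_iff_closure_subset.mpr e.le)).symm

/-- Finite over each member of a family of opens implies finite over their union. -/
theorem isFinite_restrict_iSup {ι : Type*} (D : ι → Y.Opens) (h : ∀ i, IsFinite (f ∣_ D i)) :
    IsFinite (f ∣_ ⨆ i, D i) := by
  have hle : ∀ i, D i ≤ ⨆ j, D j := le_iSup D
  refine IsZariskiLocalAtTarget.of_iSup_eq_top (P := @IsFinite)
    (fun i => (⨆ j, D j).ι ⁻¹ᵁ D i) ?_ fun i => ?_
  · rw [← Scheme.Hom.preimage_iSup, Scheme.Opens.ι_preimage_self]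
  · refine (MorphismProperty.arrow_mk_iso_iff @IsFinite (morphismRestrictRestrict f _ _)).mpr ?_
    rw [Scheme.Hom.image_preimage_eq_opensRange_inf, Scheme.Opens.opensRange_ι, inf_eq_right.mpr (hle i)]
    exact h i

end Groth.Agent.Fin57
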