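import Groth.Agent.Fin57.GenericFinite
import Groth.Agent.Cyc90.FlatRelDim
import Groth.Agent.E4O.QuasiSectionEquidim
import Groth.Agent.Desc59.EtaleDim
import Mathlib.AlgebraicGeometry.Morphisms.Proper

/-!
Dominant morphisms locally of finite type between integral schemes with finite function field
extension.
-/

set_option autoImplicit false
set_option backward.isDefEq.respectTransparency.types false
universe u

open CategoryTheory AlgebraicGeometry

namespace Groth.Agent.Fin57

variable {X Y : Scheme.{u}} (f : X ⟶ Y)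

theorem apply_genericPoint_eq [IsIntegral X] [IsIntegral Y] [IsDominant f] :
    f (genericPoint X) = genericPoint Y := by
  refine ((isGenericPoint_def.mpr ?_ : IsGenericPoint (f (genericPoint X)) Set.univ).eq
    (genericPoint_spec _))
  refine Set.eq_univ_of_forall fun y => ?_
  have h1 : Set.range f ⊆ closure {f (genericPoint X)} := by
    rintro _ ⟨x, rfl⟩
    exact ((genericPoint_specializes x).map f.continuous).mem_closure
  exact closure_minimal h1 isClosed_closure (f.denseRange y)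

/-- Finite residue extension at a point iff it is closed in its fibre. -/
theorem finite_residueField_iff [LocallyOfFiniteType f] (x : X) :
    (letI := (f.residueFieldMap x).hom.toAlgebra; Module.Finite (Y.residueField (f x)) (X.residueField x)) ↔
      ∀ x', f x' = f x → x ⤳ x' → x' = x := by
  letI := (f.residueFieldMap x).hom.toAlgebra
  have hd := Cyc90.trdeg_residueField_eq_fdeg f x
  constructor
  · intro (h : Module.Finite (Y.residueField (f x)) (X.residueField x)) x' hx' hs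
    rw [trdeg_eq_zero, eq_comm, Nat.cast_eq_zero] at hd
    by_contra hne
    have := E4O.fdeg_lt (f := f) hs hx'.symm (fun e => hne e.symm)
    omega
  · intro h
    rw [E4O.fdeg_eq_zero_of_closed_in_fibre f h, Nat.cast_zero,
      trdeg_eq_zero_iff] at hd
    haveI := hd
    haveI : Algebra.EssFiniteType (Y.residueField (f x)) (X.residueField x) :=
      Desc59.EtaleDim.essFiniteType_residueFieldMap f x
    exact Algebra.finite_of_essFiniteType_of_isAlgebraic

/-- A point near which `f` is finite is closed in its fibre. -/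
theorem closed_in_fibre_of_isFinite_resLE [LocallyOfFiniteType f] {U : X.Opens} {V : Y.Opens} (hUV : U ≤ f ⁻¹ᵁ V)
    [IsFinite (f.resLE V U hUV)] {x : X} (hx : x ∈ U) :
    ∀ x', f x' = f x → x ⤳ x' → x' = x := by
  intro x' hx' hs
  haveI : LocallyQuasiFinite (U.ι ≫ f) := by
    rw [← Scheme.Hom.resLE_comp_ι f hUV]
    infer_instance
  have hq : f.QuasiFiniteAt x :=
    (Scheme.Hom.quasiFiniteAt_comp_iff_of_isOpenImmersion (f := U.ι) (g := f) (x := ⟨x, hx⟩)).mp
      ((U.ι ≫ f).quasiFiniteAt _)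
  have hcl := hq.isClopen_singleton_asFiber
  let a : f.fiber (f x) := (f.fiberHomeo (f x)).symm ⟨x', hx'⟩
  have hsa : f.asFiber x ⤳ a := by
    rw [← (f.fiberι (f x)).isEmbedding.isInducing.specializes_iff, f.fiberι_asFiber,
      f.fiberι_fiberHomeo_symm]
    exact hs
  have he : a = f.asFiber x := hsa.mem_closed hcl.1 rfl
  have := congrArg (f.fiberι (f x)) he
  rwa [f.fiberι_asFiber, f.fiberι_fiberHomeo_symm] at this

/-- Morphisms between affine opens are finite iff the map on sections is. -/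
theorem isFinite_resLE_iff {U : X.Opens} {V : Y.Opens} (hU : IsAffineOpen U) (hV : IsAffineOpen V)
    (hUV : U ≤ f ⁻¹ᵁ V) : IsFinite (f.resLE V U hUV) ↔ (f.appLE V U hUV).hom.Finite := by
  haveI : IsAffine U := hU
  haveI : IsAffine V := hV
  rw [HasAffineProperty.iff_of_isAffine (P := @IsFinite), and_iff_right ‹IsAffine U›]
  exact RingHom.finite_respectsIso.arrow_mk_iso_iff (arrowResLEAppIso f V U hUV)

/-- If the generic fibre is a single point, `f` is finite on some pair of nonempty affine opens. -/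
theorem exists_isFinite_resLE [IsIntegral X] [IsIntegral Y] [IsDominant f] [LocallyOfFiniteType f]
    (h : ∀ x : X, f x = genericPoint Y → x = genericPoint X) :
    ∃ (U : X.Opens) (V : Y.Opens) (hUV : U ≤ f ⁻¹ᵁ V), IsAffineOpen U ∧ IsAffineOpen V ∧
      Nonempty ↥U ∧ IsFinite (f.resLE V U hUV) := by
  have hξ := apply_genericPoint_eq f
  obtain ⟨V, hV, hηV⟩ : ∃ V : Y.Opens, IsAffineOpen V ∧ genericPoint Y ∈ V := by
    obtain ⟨_, ⟨V, hV, rfl⟩, hηV, -⟩ := Y.isBasis_affineOpens.exists_subset_of_mem_open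
      (Set.mem_univ (genericPoint Y)) isOpen_univ
    exact ⟨V, hV, hηV⟩
  have hξV : genericPoint X ∈ f ⁻¹ᵁ V := show f _ ∈ V from hξ.symm ▸ hηV
  obtain ⟨U, hU, hξU, hUV⟩ : ∃ U : X.Opens, IsAffineOpen U ∧ genericPoint X ∈ U ∧ U ≤ f ⁻¹ᵁ V := by
    obtain ⟨_, ⟨U, hU, rfl⟩, hξU, hUV⟩ := X.isBasis_affineOpens.exists_subset_of_mem_open
      (show genericPoint X ∈ ((f ⁻¹ᵁ V : X.Opens) : Set X) from hξV) (f ⁻¹ᵁ V).2
    exact ⟨U, hU, hξU, hUV⟩
  haveI : IsAffine U := hU
  haveI : IsAffine V := hV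
  let g := f.resLE V U hUV
  let η : V.toScheme := ⟨genericPoint Y, hηV⟩
  have hη : Norm57.IsMax' η := fun w hw => Subtype.ext
    (((hw.map V.ι.continuous : w.1 ⤳ genericPoint Y)).antisymm (genericPoint_specializes _)).eq
  have hsub : g ⁻¹' {η} ⊆ {⟨genericPoint X, hξU⟩} := fun z hz => Subtype.ext
    (h _ (by rw [← Scheme.Hom.coe_resLE_apply f hUV]; exact congrArg Subtype.val hz))
  haveI : LocallyOfFiniteType g := by
    haveI : LocallyOfFiniteType (g ≫ V.ι) := by
      rw [show g ≫ V.ι = U.ι ≫ f from Scheme.Hom.resLE_comp_ι f hUV]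
      infer_instance
    exact locallyOfFiniteType_of_comp g V.ι
  obtain ⟨D, hD, hηD, -, -, hfD⟩ := exists_isFinite_restrict g hη
    ((Set.finite_singleton _).subset hsub) (isAffineOpen_top V.toScheme) (Set.mem_univ η)
    (isAffineOpen_top U.toScheme) le_top (Set.subset_univ _)
  have hgD : IsAffineOpen (g ⁻¹ᵁ D) := hD.preimage g
  refine ⟨U.ι ''ᵁ (g ⁻¹ᵁ D), V.ι ''ᵁ D, (Scheme.Hom.le_resLE_preimage_iff f hUV D _).mp le_rfl,
    hgD.image_of_isOpenImmersion _, hD.image_of_isOpenImmersion _,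
    ⟨⟨genericPoint X, ⟨genericPoint X, hξU⟩, ?_, rfl⟩⟩, ?_⟩
  · show g _ ∈ D
    convert! hηD
    exact Subtype.ext ((Scheme.Hom.coe_resLE_apply f hUV _).trans hξ)
  · rw [isFinite_resLE_iff f (hgD.image_of_isOpenImmersion _) (hD.image_of_isOpenImmersion _)]
    have h1 : (g.appLE D (g ⁻¹ᵁ D) le_rfl).hom.Finite :=
      (isFinite_resLE_iff g hgD hD le_rfl).mp (Scheme.Hom.resLE_eq_morphismRestrict g ▸ hfD)
    rwa [Scheme.Hom.resLE_appLE] at h1

/-- The generic fibre is a single point and `f` is quasi-compact ⇒ finite over an affine open. -/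
theorem exists_isFinite_restrict_of_quasiCompact [IsIntegral X] [IsIntegral Y] [IsDominant f]
    [LocallyOfFiniteType f] [QuasiCompact f]
    (h : ∀ x : X, f x = genericPoint Y → x = genericPoint X) :
    ∃ V : Y.Opens, IsAffineOpen V ∧ Nonempty ↥V ∧ IsFinite (f ∣_ V) := by
  have hξ := apply_genericPoint_eq f
  obtain ⟨V, hV, hηV⟩ : ∃ V : Y.Opens, IsAffineOpen V ∧ genericPoint Y ∈ V := by
    obtain ⟨_, ⟨V, hV, rfl⟩, hηV, -⟩ := Y.isBasis_affineOpens.exists_subset_of_mem_open
      (Set.mem_univ (genericPoint Y)) isOpen_univ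
    exact ⟨V, hV, hηV⟩
  have hξV : genericPoint X ∈ f ⁻¹ᵁ V := show f _ ∈ V from hξ.symm ▸ hηV
  obtain ⟨U, hU, hξU, hUV⟩ : ∃ U : X.Opens, IsAffineOpen U ∧ genericPoint X ∈ U ∧ U ≤ f ⁻¹ᵁ V := by
    obtain ⟨_, ⟨U, hU, rfl⟩, hξU, hUV⟩ := X.isBasis_affineOpens.exists_subset_of_mem_open
      (show genericPoint X ∈ ((f ⁻¹ᵁ V : X.Opens) : Set X) from hξV) (f ⁻¹ᵁ V).2
    exact ⟨U, hU, hξU, hUV⟩
  obtain ⟨D, hD, hηD, -, -, hfD⟩ := exists_isFinite_restrict f
    (η := genericPoint Y) (fun w hw => (hw.antisymm (genericPoint_specializes w)).eq)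
    ((Set.finite_singleton (genericPoint X)).subset fun x hx => h x hx) hV hηV hU hUV
    (fun x hx => (h x hx).symm ▸ hξU)
  exact ⟨D, hD, ⟨⟨_, hηD⟩⟩, hfD⟩

/-- For separated `f`, finiteness on a pair of opens upgrades to the whole preimage. -/
theorem eq_preimage_of_isFinite_resLE [IsIntegral X] [IsSeparated f] {U : X.Opens} {V : Y.Opens}
    (hUV : U ≤ f ⁻¹ᵁ V) [IsFinite (f.resLE V U hUV)] (hne : Nonempty ↥U) : U = f ⁻¹ᵁ V := by
  refine le_antisymm hUV fun x hx => ?_
  haveI : IsProper (X.homOfLE hUV ≫ f ∣_ V) := by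
    rw [← Scheme.Hom.resLE_eq_morphismRestrict, Scheme.Hom.map_resLE]
    infer_instance
  haveI : IsProper (X.homOfLE hUV) := IsProper.of_comp (X.homOfLE hUV) (f ∣_ V)
  have hcl : IsClosed (Set.range (X.homOfLE hUV)) := (X.homOfLE hUV).isClosedMap.isClosed_range
  obtain ⟨⟨u, hu⟩⟩ := hne
  have hξ : genericPoint X ∈ U := (genericPoint_specializes u).mem_open U.2 hu
  have hs : (⟨genericPoint X, hUV hξ⟩ : (f ⁻¹ᵁ V).toScheme) ⤳ ⟨x, hx⟩ :=
    ((f ⁻¹ᵁ V).ι.isEmbedding.isInducing.specializes_iff).mp (genericPoint_specializes x)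
  obtain ⟨z, hz⟩ := hs.mem_closed hcl ⟨⟨_, hξ⟩, Subtype.ext (by simp)⟩
  have := congrArg Subtype.val hz
  rw [Scheme.homOfLE_apply] at this
  exact (show z.1 = x from this) ▸ z.2

end Groth.Agent.Fin57
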